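import Groth.Agent.H66.TorusGen.Basic
import Groth.Agent.H66.Vec.FactorScheme
import Mathlib.LinearAlgebra.TensorProduct.Basis

/-!
The centre is the intersection of the maximal tori.
-/

set_option autoImplicit false

universe u

open CategoryTheory MonoidalCategory CartesianMonoidalCategory MonObj GrpObj AlgebraicGeometry TensorProduct WithConv

namespace Groth.Agent.H66.TorusGen

set_option linter.style.haveILetI false
set_option linter.unusedSectionVars false

open Groth.Agent.H1.Classical Groth.Agent.Lib.RedPts Groth.Agent.Lib.RedPts.Points Scheme' Groth.Agent.Lib.GrpSch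
  Groth.Agent.H1.Classical.Words

attribute [local instance] baseAlgebra

noncomputable section

variable {k : Type u} [Field k] [IsSepClosed k] {A : Type u} [CommRing A] [HopfAlgebra k A]

theorem eq_zero_of_tori (hG : Red.IsReductive (GA k A)) (a : A)
    (h : ∀ (T : Over (Spec (CommRingCat.of k))) [GrpObj T] (iT : T ⟶ GA k A), Red.IsMaximalTorus iT → algHomOf iT a = 0) :
    a = 0 := by
  let I : Ideal A := Ideal.span {a}
  let H : Over (Spec (CommRingCat.of k)) := (Spec (CommRingCat.of (A ⧸ I))).asOver (Spec (CommRingCat.of k))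
  let i : H ⟶ GA k A := Over.homMk (Spec.map (CommRingCat.ofHom (Ideal.Quotient.mkₐ k I).toRingHom)) (by
    show Spec.map _ ≫ Spec.map _ = Spec.map _
    rw [← Spec.map_comp, ← CommRingCat.ofHom_comp]
    rfl)
  haveI : IsClosedImmersion i.left := IsClosedImmersion.spec_of_surjective _ Ideal.Quotient.mk_surjective
  haveI : IsIso i := isIso_of_forall hG i fun T _ iT hT => by
    haveI : IsAffineHom T.hom := Groth.Agent.Lib.Tori.Basic.isAffineHom_of_isTorus hT.2.2.1
    haveI : IsAffine T.left := isAffine_of_isAffineHom T.hom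
    have hker : ∀ x ∈ I, algHomOf iT x = 0 := fun x hx => by
      obtain ⟨c, rfl⟩ := Ideal.mem_span_singleton'.1 hx
      rw [map_mul, h T iT hT, mul_zero]
    let g : A ⧸ I →+* Γ(T.left, ⊤) := Ideal.Quotient.lift I (algHomOf iT).toRingHom hker
    refine ⟨Over.homMk (T.left.toSpecΓ ≫ Spec.map (CommRingCat.ofHom g)) ?_, Over.OverMorphism.ext ?_⟩
    · have h1 : g.comp (algebraMap k (A ⧸ I)) = baseHom T := RingHom.ext fun z => by
        show Ideal.Quotient.lift I _ hker (Ideal.Quotient.mk I (algebraMap k A z)) = _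
        rw [Ideal.Quotient.lift_mk]
        exact (algHomOf iT).commutes z
      show (T.left.toSpecΓ ≫ Spec.map (CommRingCat.ofHom g)) ≫ Spec.map _ = T.hom
      rw [Category.assoc, ← Spec.map_comp]
      exact (congrArg (fun f => T.left.toSpecΓ ≫ Spec.map (CommRingCat.ofHom f)) h1).trans (Over.w (toSpec T))
    · show (T.left.toSpecΓ ≫ Spec.map (CommRingCat.ofHom g)) ≫ Spec.map _ = iT.left
      rw [Category.assoc, ← Spec.map_comp, ← CommRingCat.ofHom_comp,
        show g.comp (Ideal.Quotient.mkₐ k I).toRingHom = ringHomOf iT.left from Ideal.Quotient.lift_comp_mk _ _ _]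
      exact (eq_toSpecΓ iT.left).symm
  haveI : IsIso (Scheme.Spec.map (CommRingCat.ofHom (Ideal.Quotient.mkₐ k I).toRingHom).op) :=
    inferInstanceAs (IsIso ((Over.forget _).map i))
  haveI : IsIso (CommRingCat.ofHom (Ideal.Quotient.mkₐ k I).toRingHom).op := isIso_of_reflects_iso _ Scheme.Spec
  haveI : IsIso (CommRingCat.ofHom (Ideal.Quotient.mkₐ k I).toRingHom) := isIso_of_op _
  have hb := ConcreteCategory.bijective_of_isIso (CommRingCat.ofHom (Ideal.Quotient.mkₐ k I).toRingHom)
  exact hb.1 ((Ideal.Quotient.eq_zero_iff_mem.2 (Ideal.mem_span_singleton_self a)).trans (map_zero _).symm)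

omit [IsSepClosed k] in
theorem commute_torus {T : Over (Spec (CommRingCat.of k))} [GrpObj T] {B : Type u} [CommRing B] [HopfAlgebra k B]
    (e : T ≅ GA k B) [IsMonHom e.hom] (hT : Red.IsTorus T) {C : Type u} [CommRing C] [Algebra k C]
    (f g : WithConv (B →ₐ[k] C)) : f * g = g * f := by
  haveI : Coalgebra.IsCocomm k B := Groth.Agent.Lib.MTExt.isCocomm_of_comm fun X a b => by
    have h := congrArg (· ≫ e.hom) (Groth.Agent.Lib.Tori.Comm.mul_comm_of_isTorus hT (a ≫ e.inv) (b ≫ e.inv))
    simpa [MonObj.mul_comp] using h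
  exact mul_comm f g

/-- A point in every maximal torus is central. -/
theorem central_of_forall (hG : Red.IsReductive (GA k A)) {X : Over (Spec (CommRingCat.of k))} (g : X ⟶ GA k A)
    (hg : ∀ (T : Over (Spec (CommRingCat.of k))) [GrpObj T] (iT : T ⟶ GA k A), Red.IsMaximalTorus iT →
      ∃ t : X ⟶ T, t ≫ iT = g)
    (X' : Over (Spec (CommRingCat.of k))) (x : X' ⟶ X) (h : X' ⟶ GA k A) : (x ≫ g) * h = h * (x ≫ g) := by
  classical
  let R := Γ(X.left, ⊤)
  let l : WithConv (A →ₐ[k] R ⊗[k] A) := toConv ((Algebra.TensorProduct.includeLeft : R →ₐ[k] R ⊗[k] A).comp (algHomOf g))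
  let r : WithConv (A →ₐ[k] R ⊗[k] A) := toConv Algebra.TensorProduct.includeRight
  have key : l * r = r * l := by
    refine ofConv_injective (AlgHom.ext fun a => sub_eq_zero.1 ?_)
    set F := (l * r).ofConv a - (r * l).ofConv a with hF
    let bR := Module.Free.chooseBasis k R
    refine (TensorProduct.equivFinsuppOfBasisLeft bR).injective (Finsupp.ext fun j => ?_)
    rw [map_zero, Finsupp.zero_apply]
    refine eq_zero_of_tori hG _ fun T _ iT hT => ?_
    obtain ⟨t, ht⟩ := hg T iT hT
    haveI : IsAffineHom T.hom := Groth.Agent.Lib.Tori.Basic.isAffineHom_of_isTorus hT.2.2.1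
    haveI : IsAffine T.left := isAffine_of_isAffineHom T.hom
    obtain ⟨B, _, _, e, he⟩ := H1.Hopf.exists_iso T
    haveI := he
    haveI : IsMonHom e.inv := inferInstance
    haveI := hT.1
    obtain ⟨p, hp⟩ := H66.Vec.exists_bialgHom (e.inv ≫ iT)
    have hp' : iT = e.hom ≫ specHom p := (Iso.inv_comp_eq e).1 hp.symm
    let m : R ⊗[k] A →ₐ[k] R ⊗[k] B := Algebra.TensorProduct.map (AlgHom.id k R) (p : A →ₐ[k] B)
    let τ : B →ₐ[k] R := algHomOf (t ≫ e.hom)
    let l' : WithConv (B →ₐ[k] R ⊗[k] B) := toConv ((Algebra.TensorProduct.includeLeft : R →ₐ[k] R ⊗[k] B).comp τ)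
    let r' : WithConv (B →ₐ[k] R ⊗[k] B) := toConv Algebra.TensorProduct.includeRight
    have hl : push m l = toConv (l'.ofConv.comp (p : A →ₐ[k] B)) := by
      refine congrArg toConv (AlgHom.ext fun z => ?_)
      show m (algHomOf g z ⊗ₜ[k] (1 : A)) = τ (p z) ⊗ₜ[k] (1 : B)
      rw [← ht, hp', ← Category.assoc, algHomOf_specHom]
      simp [m, τ]
    have hr : push m r = toConv (r'.ofConv.comp (p : A →ₐ[k] B)) := by
      refine congrArg toConv (AlgHom.ext fun z => ?_)
      show m ((1 : R) ⊗ₜ[k] z) = (1 : R) ⊗ₜ[k] (p z)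
      simp [m]
    have hcomm : push m (l * r) = push m (r * l) := by
      rw [map_mul, map_mul, hl, hr]
      refine ofConv_injective ?_
      exact ((AlgHom.convMul_comp_bialgHom_distrib l' r' p).symm.trans
        (congrArg (fun q : WithConv (B →ₐ[k] R ⊗[k] B) => q.ofConv.comp (p : A →ₐ[k] B))
          (commute_torus e hT.2.2.1 l' r'))).trans (AlgHom.convMul_comp_bialgHom_distrib r' l' p)
    have h0 : m F = 0 := by
      rw [hF, map_sub, sub_eq_zero]
      exact AlgHom.congr_fun (congrArg WithConv.ofConv hcomm) a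
    have hcoef : ∀ z : R ⊗[k] A, p (TensorProduct.equivFinsuppOfBasisLeft bR z j) =
        TensorProduct.equivFinsuppOfBasisLeft bR (m z) j := by
      intro z
      induction z using TensorProduct.induction_on with
      | zero => simp
      | add y z hy hz => simp only [map_add, Finsupp.add_apply, hy, hz]
      | tmul y z => simp [m]
    have h1 := hcoef F
    rw [h0, map_zero, Finsupp.zero_apply] at h1
    rw [hp', algHomOf_specHom, h1, map_zero]
  let res : R →ₐ[k] Γ(X'.left, ⊤) :=
    { x.left.appTop.hom with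
      commutes' := fun z => by
        show x.left.appTop.hom (baseHom X z) = baseHom X' z
        simp only [baseHom, ← Over.w x, Scheme.Hom.comp_appTop]
        rfl }
  let Λ : R ⊗[k] A →ₐ[k] Γ(X'.left, ⊤) := Algebra.TensorProduct.lift res (algHomOf h) fun _ _ => Commute.all _ _
  have hl : push Λ l = toConv (algHomOf (x ≫ g)) := congrArg toConv (AlgHom.ext fun z => by
    show Λ (algHomOf g z ⊗ₜ[k] (1 : A)) = algHomOf (x ≫ g) z
    rw [show algHomOf (x ≫ g) z = x.left.appTop.hom (algHomOf g z) from ringHomOf_comp x.left g.left z]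
    simp [Λ, res])
  have hr : push Λ r = toConv (algHomOf h) := congrArg toConv (AlgHom.ext fun z => by
    show Λ ((1 : R) ⊗ₜ[k] z) = algHomOf h z
    simp [Λ])
  have := congrArg (push Λ) key
  rw [map_mul, map_mul, hl, hr] at this
  have h2 := congrArg (fun q : WithConv (A →ₐ[k] Γ(X'.left, ⊤)) => pointOf q.ofConv) this
  rw [← pointOf_mul, ← pointOf_mul, pointOf_algHomOf, pointOf_algHomOf] at h2
  exact h2

end

end Groth.Agent.H66.TorusGen
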